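import Groth.Agent.GeomField.GlobalFunctions
import Groth.Agent.GrpFieldLib.TwSplit
import Groth.Agent.Lib.CurveSection
import Mathlib.AlgebraicGeometry.Morphisms.ClosedImmersion

/-! Global functions of a reduced proper scheme over an algebraically closed field. -/

noncomputable section

open CategoryTheory CategoryTheory.Limits AlgebraicGeometry Opposite TopologicalSpace

set_option backward.isDefEq.respectTransparency false
set_option backward.isDefEq.respectTransparency.types false
set_option linter.style.haveILetI false
set_option maxHeartbeats 1000000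

universe u

namespace Groth.Agent.NormEuler

attribute [local instance] Curv2.resAlgebra GeomField.globalAlgebra

variable (k : Type u) [Field k] [IsAlgClosed k] (X : Scheme.{u}) [X.Over (Spec (CommRingCat.of k))]
  [IsProper (X ↘ Spec (CommRingCat.of k))] [IsReduced X]

omit [IsAlgClosed k] [IsReduced X] in
include k in
theorem finite_components : Finite (_root_.ConnectedComponents X) := by
  haveI : IsLocallyNoetherian X := LocallyOfFiniteType.isLocallyNoetherian (X ↘ Spec (CommRingCat.of k))
  haveI : CompactSpace X := QuasiCompact.compactSpace_of_compactSpace (X ↘ Spec (CommRingCat.of k))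
  haveI := GrpFieldLib.TwSplit.locallyConnectedSpace_of_isLocallyNoetherian X
  exact finite_of_compact_of_discrete

/-- `h⁰(O)` is the number of connected components. -/
theorem finrank_h0_eq_card :
    Module.finrank k (Coh.HH X (Coh.structureModule X) 0) = Nat.card (_root_.ConnectedComponents X) := by
  classical
  haveI : IsLocallyNoetherian X := LocallyOfFiniteType.isLocallyNoetherian (X ↘ Spec (CommRingCat.of k))
  haveI : CompactSpace X := QuasiCompact.compactSpace_of_compactSpace (X ↘ Spec (CommRingCat.of k))
  haveI := GrpFieldLib.TwSplit.locallyConnectedSpace_of_isLocallyNoetherian X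
  haveI := finite_components k X
  haveI := Fintype.ofFinite (_root_.ConnectedComponents X)
  let U : _root_.ConnectedComponents X → X.Opens := fun c =>
    ⟨ConnectedComponents.mk ⁻¹' {c}, (isOpen_discrete _).preimage ConnectedComponents.continuous_coe⟩
  have hUcl : ∀ c, IsClosed (U c : Set X) := fun c =>
    (isClosed_discrete {c}).preimage ConnectedComponents.continuous_coe
  have hUne : ∀ c, (U c : Set X).Nonempty := fun c =>
    (ConnectedComponents.surjective_coe c).imp fun x hx => hx
  choose x hxU hxc using fun c => (hUcl c).exists_closed_singleton (hUne c)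
  let e : ∀ c, X.residueField (x c) ≃ₐ[k] k := fun c =>
    (AlgEquiv.ofBijective (Algebra.ofId k (X.residueField (x c)))
      ⟨(algebraMap k (X.residueField (x c))).injective, CurveSection.surjective_resMap k (hxc c)⟩).symm
  let Φ : Γ(X, ⊤) →ₗ[k] (_root_.ConnectedComponents X → k) :=
    LinearMap.pi fun c => ((e c).toAlgHom.comp (GeomField.evalHom k X (x c))).toLinearMap
  have hinj : Function.Injective Φ := by
    refine (injective_iff_map_eq_zero Φ).2 fun f hf => ?_
    rw [← AlgebraicGeometry.basicOpen_eq_bot_iff]
    refine Opens.ext (Set.eq_empty_iff_forall_notMem.2 fun y hy => ?_)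
    let c := ConnectedComponents.mk y
    let Xc : Scheme.{u} := (U c : Scheme.{u})
    letI : Xc.Over (Spec (CommRingCat.of k)) := ⟨(U c).ι ≫ (X ↘ Spec (CommRingCat.of k))⟩
    haveI : IsClosedImmersion (U c).ι := IsClosedImmersion.of_isPreimmersion _ (by
      rw [Scheme.Opens.range_ι]; exact hUcl c)
    haveI : UniversallyClosed (Xc ↘ Spec (CommRingCat.of k)) :=
      inferInstanceAs (UniversallyClosed ((U c).ι ≫ (X ↘ Spec (CommRingCat.of k))))
    haveI : ConnectedSpace Xc := by
      refine Subtype.connectedSpace ?_
      show _root_.IsConnected (ConnectedComponents.mk ⁻¹' {ConnectedComponents.mk y})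
      rw [connectedComponents_preimage_singleton]
      exact isConnected_connectedComponent
    have hF := GeomField.isField_globalFunctions k Xc
    have hnu : ¬ IsUnit ((U c).ι.appTop f) := fun hu => by
      have h1 : (⟨x c, hxU c⟩ : Xc) ∈ Xc.basicOpen ((U c).ι.appTop f) := by
        rw [Xc.basicOpen_of_isUnit hu]; trivial
      have h1' : (⟨x c, hxU c⟩ : Xc) ∈ (U c).ι ⁻¹ᵁ X.basicOpen f :=
        (SetLike.ext_iff.1 (Scheme.preimage_basicOpen (U c).ι f) _).2 h1
      have h2 := (X.mem_basicOpen f (x c) trivial).1 h1'
      have h3 : GeomField.evalHom k X (x c) f = 0 := by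
        have := congrFun hf c
        exact (map_eq_zero_iff (e c) (e c).injective).1 this
      exact (h2.map (X.residue (x c)).hom).ne_zero h3
    have h0 : (U c).ι.appTop f = 0 := by
      by_contra hne
      obtain ⟨b, hb⟩ := hF.mul_inv_cancel hne
      exact hnu (.of_mul_eq_one _ hb)
    have h4 : (⟨y, rfl⟩ : Xc) ∈ (U c).ι ⁻¹ᵁ X.basicOpen f := hy
    have h5 : (⟨y, rfl⟩ : Xc) ∈ Xc.basicOpen ((U c).ι.appTop f) :=
      (SetLike.ext_iff.1 (Scheme.preimage_basicOpen (U c).ι f) _).1 h4
    rw [h0, Scheme.basicOpen_zero] at h5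
    exact h5
  have hsurj : Function.Surjective Φ := fun v => by
    let a : ∀ c, Γ(X, U c) := fun c => X.presheaf.map (homOfLE le_top).op (algebraMap k Γ(X, ⊤) (v c))
    obtain ⟨s, hs, -⟩ := TopCat.Sheaf.existsUnique_gluing' X.sheaf U ⊤ (fun c => homOfLE le_top)
      (fun z _ => Opens.mem_iSup.2 ⟨ConnectedComponents.mk z, rfl⟩) a fun i j => by
        by_cases hij : i = j
        · subst hij; rfl
        · have hd : U i ⊓ U j = ⊥ := Opens.ext (Set.eq_empty_iff_forall_notMem.2 fun z hz => hij (hz.1.symm.trans hz.2))
          haveI : Subsingleton Γ(X, U i ⊓ U j) := by rw [hd]; infer_instance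
          exact Subsingleton.elim (α := Γ(X, U i ⊓ U j)) _ _
    refine ⟨s, funext fun c => ?_⟩
    show e c (GeomField.evalHom k X (x c) s) = v c
    have h1 : X.presheaf.germ ⊤ (x c) trivial s = X.presheaf.germ ⊤ (x c) trivial (algebraMap k Γ(X, ⊤) (v c)) := by
      rw [← X.presheaf.germ_res_apply (homOfLE le_top : U c ⟶ ⊤) (x c) (hxU c) s,
        ← X.presheaf.germ_res_apply (homOfLE le_top : U c ⟶ ⊤) (x c) (hxU c) (algebraMap k Γ(X, ⊤) (v c))]
      exact congrArg _ (hs c)
    have h2 : GeomField.evalHom k X (x c) s = GeomField.evalHom k X (x c) (algebraMap k Γ(X, ⊤) (v c)) :=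
      congrArg (X.residue (x c)).hom h1
    rw [h2, AlgHom.commutes, AlgEquiv.commutes]
    rfl
  rw [GeomField.finrank_HH_zero, (LinearEquiv.ofBijective Φ ⟨hinj, hsurj⟩).finrank_eq,
    Module.finrank_fintype_fun_eq_card, Nat.card_eq_fintype_card]

end Groth.Agent.NormEuler
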