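import Groth.Agent.NormEuler.Main
import Groth.Agent.NormEuler.Count
import Groth.Agent.MultiCross.Point
import Groth.Agent.NodeLib.NodalLocal
import Groth.Agent.AVDualCx.BC
import Groth.Agent.RegLoc6.Normal
import Groth.Agent.NagataLib.Scheme
import Groth.Agent.NefCurve.Gen

/-! The genus of a nodal curve and of its normalization. -/

noncomputable section

open CategoryTheory CategoryTheory.Limits AlgebraicGeometry Opposite TopologicalSpace IsLocalRing

set_option backward.isDefEq.respectTransparency false
set_option backward.isDefEq.respectTransparency.types false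
set_option linter.style.haveILetI false
set_option maxHeartbeats 1000000

universe u

namespace Groth.Agent.NormEuler

attribute [local instance] Curv2.resAlgebra

theorem deltaInv_of_isIntegrallyClosed (A : Type u) [CommRing A] [IsIntegrallyClosed A] : Curv2.deltaInv A = 0 := by
  unfold Curv2.deltaInv
  rw [Module.length_eq_zero_iff, Submodule.Quotient.subsingleton_iff, LinearMap.range_eq_top]
  intro z
  obtain ⟨a, ha⟩ := IsIntegrallyClosed.algebraMap_eq_of_integral z.2
  exact ⟨a, Subtype.ext ha⟩

variable {k : Type u} [Field k] [IsAlgClosed k] {C : Scheme.{u}} [C.Over (Spec (CommRingCat.of k))]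
  [LocallyOfFinitePresentation (C ↘ Spec (CommRingCat.of k))]

/-- The δ-invariant of a nodal curve is one at the nodes and zero elsewhere. -/
theorem deltaInv_nodal (hdim : ∀ Z ∈ irreducibleComponents (C : Type u), topologicalKrullDim Z = 1)
    (hC : Curv2.AtWorstNodal k C) [IsReduced C] {x : C} (hx : IsClosed ({x} : Set C)) [Decidable (Curv2.IsNode k C x)] :
    (Curv2.deltaInv (C.presheaf.stalk x)).toNat = if Curv2.IsNode k C x then 1 else 0 := by
  have hd := NodeLib.dim_le_one_of_components (C ↘ Spec (CommRingCat.of k)) hdim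
  haveI := NodeLib.isNoetherianRing_stalk_of_lft (C ↘ Spec (CommRingCat.of k)) x
  by_cases hn : Curv2.IsNode k C x
  · rw [if_pos hn]
    letI := Curv2.stalkAlgebra k C x
    have hnp := NodeLib.hasNodePair_of_isNode hn (IsPullback.id_horiz (C ↘ Spec (CommRingCat.of k))) x rfl
    obtain ⟨e, -⟩ := (NodeLib.isOrdDoublePt_stalk_iff (C ↘ Spec (CommRingCat.of k)) hx).mpr hnp
    have hI : Ideal.span {(MvPowerSeries.X 0 * MvPowerSeries.X 1 : MvPowerSeries (Fin 2) k)} =
        MultiCross.crossI k 2 := by
      refine le_antisymm (Ideal.span_le.2 ?_) (Ideal.span_le.2 ?_)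
      · rintro _ rfl
        exact Ideal.subset_span ⟨0, 1, zero_ne_one, rfl⟩
      · rintro _ ⟨i, j, hij, rfl⟩
        rw [SetLike.mem_coe, Ideal.mem_span_singleton]
        fin_cases i <;> fin_cases j
        all_goals first | exact absurd rfl hij | exact dvd_rfl | exact ⟨1, (mul_comm _ _).trans (mul_one _).symm⟩
    have h := (MultiCross.branches_delta (C.presheaf.stalk x)
      (NagataLib.isNagata_stalk (C ↘ Spec (CommRingCat.of k)) x)
      (MultiCross.ringKrullDim_stalk_eq_one (C ↘ Spec (CommRingCat.of k)) hdim hx)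
      ((e : Curv2.cpl (C.presheaf.stalk x) ≃+* _).trans (Ideal.quotEquivOfEq hI))).2
    have h' : Curv2.deltaInv (C.presheaf.stalk x) + 1 = 1 + 1 := h
    obtain ⟨d, hd'⟩ := ENat.ne_top_iff_exists.1 (fun h0 : Curv2.deltaInv (C.presheaf.stalk x) = ⊤ => by
      rw [h0, top_add] at h'
      exact ENat.natCast_ne_top 2 (by rw [h']; rfl))
    rw [← hd', ENat.toNat_natCast]
    rw [← hd'] at h'
    have h2 : d + 1 = 1 + 1 := by exact_mod_cast h'
    omega
  · rw [if_neg hn]
    have hs := ((NodeLib.atWorstNodal_iff hd).mp hC x).resolve_right hn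
    haveI := SmoothReg.isRegularLocalRing_stalk_of_mem_smoothLocus _ hs
    haveI := RegLoc6.isIntegrallyClosed_of_isRegularLocalRing (C.presheaf.stalk x)
    rw [deltaInv_of_isIntegrallyClosed]
    rfl

/-- `g(C) + ν = g(C') + δ + μ`. -/
theorem genus_formula (k : Type u) [Field k] [IsAlgClosed k]
    (C : Scheme.{u}) [C.Over (Spec (CommRingCat.of k))] [IsProper (C ↘ (Spec (CommRingCat.of k)))]
    (hdim : ∀ Z ∈ irreducibleComponents (C : Type u), topologicalKrullDim Z = 1) (hC : Curv2.AtWorstNodal k C)
    (C' : Scheme.{u}) [C'.Over (Spec (CommRingCat.of k))] (π : C' ⟶ C) [IsFinite π]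
    (hπ : π ≫ (C ↘ (Spec (CommRingCat.of k))) = C' ↘ (Spec (CommRingCat.of k))) (hC' : Pi1.IsNormalScheme C')
    (U : C.Opens) (hU : Dense (U : Set C)) (hU' : Dense ((π ⁻¹ᵁ U : C'.Opens) : Set C')) [IsIso (π ∣_ U)] :
    (Curv2.genus k C : ℤ) + Nat.card (_root_.ConnectedComponents C') =
      (Curv2.genus k C' : ℤ) + Nat.card {x : C // Curv2.IsNode k C x} + Nat.card (_root_.ConnectedComponents C) := by
  classical
  haveI : IsLocallyNoetherian C := LocallyOfFiniteType.isLocallyNoetherian (C ↘ Spec (CommRingCat.of k))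
  haveI : LocallyOfFinitePresentation (C ↘ Spec (CommRingCat.of k)) := inferInstance
  have hd := NodeLib.dim_le_one_of_components (C ↘ Spec (CommRingCat.of k)) hdim
  haveI : IsReduced C := by
    haveI : ∀ y : C, _root_.IsReduced (C.presheaf.stalk y) := fun y =>
      (NodeLib.reduced_gorenstein_of_atWorstNodal hd hC y).1
    exact isReduced_of_isReduced_stalk C
  haveI : IsReduced C' := by
    haveI : ∀ y : C', _root_.IsReduced (C'.presheaf.stalk y) := fun y => by
      haveI := (hC' y).1
      infer_instance
    exact isReduced_of_isReduced_stalk C'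
  haveI : IsProper (C' ↘ (Spec (CommRingCat.of k))) := by rw [← hπ]; infer_instance
  have hd' : topologicalKrullDim C' ≤ 1 := (AVDualCx.dim_le_of_finite π).trans hd
  have h := euler_eq k C hdim C' π hπ hC' hU hU'
  rw [NefCurve.euler_eq k hd' QCoh.isQCoh_structureModule, NefCurve.euler_eq k hd QCoh.isQCoh_structureModule,
    finrank_h0_eq_card, finrank_h0_eq_card] at h
  let N := {x : C | Curv2.IsNode k C x}
  haveI := CurveCohLib.isNoetherian' (k := k) (X := C)
  have hterm : ∀ x : C, (if IsClosed ({x} : Set C) then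
      ((Module.finrank k (C.residueField x) : ℤ) * ((Curv2.deltaInv (C.presheaf.stalk x)).toNat : ℤ)) else 0) =
      if x ∈ N then 1 else 0 := fun x => by
    by_cases hx : IsClosed ({x} : Set C)
    · have h1 : Module.finrank k (C.residueField x) = 1 := by
        rw [← Module.finrank_self k]
        exact (LinearEquiv.ofBijective (Algebra.linearMap k (C.residueField x))
          ⟨(algebraMap k (C.residueField x)).injective, CurveSection.surjective_resMap k hx⟩).finrank_eq.symm
      rw [if_pos hx, h1, deltaInv_nodal hdim hC hx, Nat.cast_one, one_mul]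
      by_cases hn : Curv2.IsNode k C x
      · rw [if_pos hn, if_pos (show x ∈ N from hn), Nat.cast_one]
      · rw [if_neg hn, if_neg (show x ∉ N from hn), Nat.cast_zero]
    · rw [if_neg hx, if_neg fun hn : x ∈ N => hx hn.1]
  have hNfin : N.Finite := by
    have hsm : N ⊆ ((C ↘ Spec (CommRingCat.of k)).smoothLocus : Set C)ᶜ := fun x hn hs =>
      NodeLib.notMem_smoothLocus_of_hasNodePair (C ↘ Spec (CommRingCat.of k)) hd
        (NodeLib.hasNodePair_of_isNode hn (IsPullback.id_horiz (C ↘ Spec (CommRingCat.of k))) x rfl) hs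
    refine (CurveCohLib.finite_of_closedPoints (C ↘ Spec (CommRingCat.of k)).smoothLocus.isOpen.isClosed_compl
      fun x hx => ?_).subset hsm
    exact (((NodeLib.atWorstNodal_iff hd).mp hC x).resolve_left hx).1
  rw [finsum_congr hterm, finsum_eq_sum_of_support_subset _ (s := hNfin.toFinset) (fun x hx => by
    rw [Set.Finite.coe_toFinset]; by_contra h'; exact hx (if_neg h')),
    Finset.sum_congr rfl (fun x hx => if_pos (hNfin.mem_toFinset.1 hx)), Finset.sum_const, nsmul_one,
    ← Nat.card_eq_card_finite_toFinset hNfin] at h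
  unfold Curv2.genus
  have hcard : Nat.card {x : C // Curv2.IsNode k C x} = Nat.card N := rfl
  omega

end Groth.Agent.NormEuler
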