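import Groth.Agent.MultiCross.Delta
import Mathlib.RingTheory.Localization.Module
import Mathlib.RingTheory.Localization.LocalizationLocalization

/-! The δ-invariant of a localization of a ring with a normal finite birational extension. -/

noncomputable section

set_option linter.style.haveILetI false
set_option maxHeartbeats 1000000

universe u

namespace Groth.Agent.NormEuler

/-- A ring whose localizations at maximal ideals are integrally closed domains is integrally closed in its
total ring of fractions. -/
theorem isIntegrallyClosed_of_localization (R : Type u) [CommRing R]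
    (h : ∀ P : Ideal R, ∀ [P.IsMaximal], IsDomain (Localization.AtPrime P) ∧ IsIntegrallyClosed (Localization.AtPrime P)) :
    IsIntegrallyClosed R := by
  refine (isIntegrallyClosed_iff (FractionRing R)).2 fun {x} hx => ?_
  obtain ⟨⟨a, s⟩, hz⟩ := IsLocalization.surj (nonZeroDivisors R) x
  let J : Ideal R := Submodule.comap (LinearMap.mulLeft R a) (Ideal.span {(s : R)})
  have hJ : ∀ r, r ∈ J ↔ a * r ∈ Ideal.span {(s : R)} := fun r => Iff.rfl
  suffices (1 : R) ∈ J by
    obtain ⟨c, hc⟩ := Ideal.mem_span_singleton'.1 ((hJ 1).1 this)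
    refine ⟨c, (IsLocalization.map_units (FractionRing R) s).mul_right_cancel ?_⟩
    rw [← map_mul, hc, mul_one]
    exact hz.symm
  by_contra hne
  obtain ⟨P, hP, hle⟩ := Ideal.exists_le_maximal J fun htop => hne (htop ▸ Submodule.mem_top)
  haveI := hP
  obtain ⟨hdom, hic⟩ := h P
  let L := Localization.AtPrime P
  let G := FractionRing L
  have hsL : ∀ y : nonZeroDivisors R, algebraMap R L y ≠ 0 := fun y h0 => by
    obtain ⟨u, hu⟩ := (IsLocalization.map_eq_zero_iff P.primeCompl L (y : R)).1 h0
    have : (u : R) = 0 := (mem_nonZeroDivisors_iff_left.1 y.2) u (by rw [mul_comm]; exact hu)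
    exact u.2 (this ▸ P.zero_mem)
  let g : R →+* G := (algebraMap L G).comp (algebraMap R L)
  have hg : ∀ y : nonZeroDivisors R, IsUnit (g y) := fun y =>
    IsLocalization.map_units G (⟨_, mem_nonZeroDivisors_of_ne_zero (hsL y)⟩ : nonZeroDivisors L)
  have h1 : IsIntegral L (IsLocalization.lift hg x) :=
    IsIntegral.map_of_comp_eq (algebraMap R L) (IsLocalization.lift hg)
      (IsLocalization.lift_comp (S := FractionRing R) hg).symm hx
  obtain ⟨c, hc⟩ := IsIntegrallyClosed.algebraMap_eq_of_integral h1
  have h2 : algebraMap R L a = c * algebraMap R L s := by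
    apply IsFractionRing.injective L G
    rw [map_mul, hc]
    show g a = IsLocalization.lift hg x * g s
    rw [← IsLocalization.lift_eq (S := FractionRing R) hg a, ← IsLocalization.lift_eq (S := FractionRing R) hg (s : R),
      ← map_mul, hz]
  obtain ⟨⟨b, u⟩, hb⟩ := IsLocalization.surj P.primeCompl c
  have h3 : algebraMap R L (a * u) = algebraMap R L (b * s) := by
    rw [map_mul, map_mul, h2, ← hb]
    ring
  obtain ⟨w, hw⟩ := (IsLocalization.eq_iff_exists P.primeCompl L).1 h3
  refine (u * w : P.primeCompl).2 (hle ((hJ _).2 (Ideal.mem_span_singleton'.2 ⟨(w : R) * b, ?_⟩)))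
  show (w : R) * b * s = a * ((u : R) * w)
  linear_combination -hw

/-- The δ-invariant of a localization, computed on the localized normalization. -/
theorem length_localized (R R' : Type u) [CommRing R] [CommRing R'] [Algebra R R'] [Module.Finite R R']
    (p : Ideal R) [p.IsPrime] (A : Type u) [CommRing A] [Algebra R A] [IsLocalization.AtPrime A p]
    (hinj : Function.Injective (algebraMap R R'))
    (hnorm : ∀ P : Ideal R', ∀ [P.IsPrime], IsDomain (Localization.AtPrime P) ∧ IsIntegrallyClosed (Localization.AtPrime P))
    (t : R) (ht' : ∀ z : R', algebraMap R R' t * z = 0 → z = 0)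
    (hden : ∀ z : R', ∃ r, algebraMap R R' r = t • z)
    (T : Type u) [AddCommGroup T] [Module A T] [Module R T] [IsScalarTower R A T] (g : R' →ₗ[R] T)
    [IsLocalizedModule p.primeCompl g] :
    Module.length A (T ⧸ Submodule.span A {g 1}) = Curv2.deltaInv A := by
  let M' := Algebra.algebraMapSubmonoid R' p.primeCompl
  let A' := Localization M'
  let j : A →+* A' := IsLocalization.map (M := p.primeCompl) (T := M') A' (algebraMap R R')
    fun r hr => ⟨r, hr, rfl⟩
  letI := j.toAlgebra
  haveI : IsScalarTower R A A' := IsScalarTower.of_algebraMap_eq fun r => by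
    show algebraMap R A' r = j (algebraMap R A r)
    rw [show j (algebraMap R A r) = algebraMap R' A' (algebraMap R R' r) from IsLocalization.map_eq _ r,
      ← IsScalarTower.algebraMap_apply R R' A']
  haveI hLM : IsLocalizedModule p.primeCompl (IsScalarTower.toAlgHom R R' A').toLinearMap :=
    isLocalizedModule_iff_isLocalization.2 inferInstance
  haveI : IsLocalization (Submonoid.map (algebraMap R R') p.primeCompl) A' :=
    (inferInstance : IsLocalization M' A')
  have hj : Function.Injective j :=
    IsLocalization.map_injective_of_injective p.primeCompl (S := A) (Q := A') (g := algebraMap R R') hinj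
  haveI : IsIntegrallyClosed A' := isIntegrallyClosed_of_localization A' fun P hP => by
    haveI := IsLocalization.isLocalization_isLocalization_atPrime_isLocalization (R := R') M' (Localization.AtPrime P) P
    let e := (IsLocalization.algEquiv (P.comap (algebraMap R' A')).primeCompl
      (Localization.AtPrime (P.comap (algebraMap R' A'))) (Localization.AtPrime P)).toRingEquiv
    obtain ⟨hd, hi⟩ := hnorm (P.comap (algebraMap R' A'))
    exact ⟨e.symm.toMulEquiv.isDomain _, IsIntegrallyClosed.of_equiv e⟩
  haveI : Module.Finite A A' := Module.Finite.of_isLocalizedModule p.primeCompl (Rₚ := A)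
    (IsScalarTower.toAlgHom R R' A').toLinearMap
  have hnzd : ∀ z : A', algebraMap R' A' (algebraMap R R' t) * z = 0 → z = 0 := fun z hz => by
    obtain ⟨⟨a, m⟩, hm⟩ := IsLocalization.surj M' z
    have h1 : algebraMap R' A' (algebraMap R R' t * a) = 0 := by
      rw [map_mul, ← hm, ← mul_assoc, hz, zero_mul]
    obtain ⟨w, hw⟩ := (IsLocalization.map_eq_zero_iff M' A' _).1 h1
    have h2 : (w : R') * a = 0 := ht' _ (by rw [mul_left_comm]; exact hw)
    have h3 : algebraMap R' A' a = 0 := (IsLocalization.map_eq_zero_iff M' A' _).2 ⟨w, h2⟩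
    rw [← hm] at h3
    exact (IsLocalization.map_units A' m).mul_left_eq_zero.1 h3
  have htt : algebraMap A A' (algebraMap R A t) = algebraMap R' A' (algebraMap R R' t) := IsLocalization.map_eq _ t
  rw [MultiCross.deltaInv_eq_of_normal (A := A) (N := A') hj (Algebra.IsIntegral.of_finite A A') (algebraMap R A t)
    (fun z hz => hj (by rw [map_zero]; exact hnzd _ (by rw [← htt]; exact (map_mul j _ _).symm.trans (by rw [hz, map_zero]))))
    (fun z hz => hnzd z (by rw [← htt]; exact hz)) (fun z => ?_)]
  swap
  · obtain ⟨⟨z₀, m⟩, hm⟩ := IsLocalization.surj M' z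
    obtain ⟨_, s, hs, rfl⟩ := m
    obtain ⟨r, hr⟩ := hden z₀
    refine ⟨IsLocalization.mk' A r ⟨s, hs⟩, ((IsLocalization.map_units A (⟨s, hs⟩ : p.primeCompl)).map j).mul_right_cancel ?_⟩
    show algebraMap A A' _ * algebraMap A A' (algebraMap R A s) = _ * algebraMap A A' (algebraMap R A s)
    rw [← map_mul, IsLocalization.mk'_spec, ← IsScalarTower.algebraMap_apply, ← IsScalarTower.algebraMap_apply,
      IsScalarTower.algebraMap_apply R R' A', hr, Algebra.smul_def, Algebra.smul_def, htt, map_mul, mul_assoc,
      IsScalarTower.algebraMap_apply R R' A' s, hm]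
  let ε : A' ≃ₗ[A] T :=
    (IsLocalizedModule.linearEquiv p.primeCompl (IsScalarTower.toAlgHom R R' A').toLinearMap g).extendScalarsOfIsLocalization
      p.primeCompl A
  have h1 : ε 1 = g 1 := by
    conv_lhs => rw [show (1 : A') = (IsScalarTower.toAlgHom R R' A').toLinearMap 1 from (map_one (IsScalarTower.toAlgHom R R' A')).symm]
    exact IsLocalizedModule.linearEquiv_apply p.primeCompl _ g 1
  refine (LinearEquiv.length_eq (Submodule.Quotient.equiv _ _ ε ?_)).symm
  ext x
  rw [Submodule.mem_span_singleton]
  constructor
  · rintro ⟨_, ⟨a, rfl⟩, rfl⟩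
    exact ⟨a, by
      show a • g 1 = ε (algebraMap A A' a)
      rw [Algebra.algebraMap_eq_smul_one, map_smul, h1]⟩
  · rintro ⟨a, rfl⟩
    exact ⟨algebraMap A A' a, ⟨a, rfl⟩, by
      show ε (algebraMap A A' a) = a • g 1
      rw [Algebra.algebraMap_eq_smul_one, map_smul, h1]⟩

end Groth.Agent.NormEuler
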