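import Groth.Agent.NormEuler.Alg
import Groth.Agent.NormX.GlueMod
import Groth.Agent.CurveCohLib.Skyscraper
import Groth.Agent.IntNum.Push
import Groth.Agent.Lib.CurveBundle
import Groth.Agent.Lib.CurveSlope
import Groth.Agent.S2320
import Groth.Agent.FlatDense.Basic
import Groth.Agent.S12708
import Groth.Agent.Kleiman.Generic
import Groth.Prelude.Def_ClSub2
import Mathlib.Algebra.Category.ModuleCat.Kernels
import Mathlib.AlgebraicGeometry.Morphisms.Finite

/-! The Euler characteristic of a normalization is that of the curve plus the δ-invariants. -/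

noncomputable section

open CategoryTheory CategoryTheory.Limits AlgebraicGeometry Opposite TopologicalSpace

set_option backward.isDefEq.respectTransparency false
set_option backward.isDefEq.respectTransparency.types false
set_option linter.style.haveILetI false
set_option maxHeartbeats 1000000

universe u

namespace Groth.Agent.NormEuler

attribute [local instance] Curv2.resAlgebra

section

variable {X X' : Scheme.{u}} [IsReduced X] (π : X' ⟶ X) {U₀ : X.Opens} (hU : Dense (U₀ : Set X))
  (hU' : Dense ((π ⁻¹ᵁ U₀ : X'.Opens) : Set X')) [IsIso (π ∣_ U₀)]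

theorem app_res {X X' : Scheme.{u}} (π : X' ⟶ X) {W W' : X.Opens} (i : W' ≤ W) (s : Γ(X, W)) :
    π.app W' (X.presheaf.map (homOfLE i).op s) =
      X'.presheaf.map (homOfLE (π.preimage_mono i)).op (π.app W s) := by
  have h := congr($(π.naturality (homOfLE i).op) s)
  simp only [CommRingCat.comp_apply] at h
  exact h

include hU in
theorem app_injective (W : X.Opens) : Function.Injective (π.app W) := by
  intro s s' h
  rw [← sub_eq_zero, ← AlgebraicGeometry.basicOpen_eq_bot_iff]
  refine Opens.ext (Set.not_nonempty_iff_eq_empty.1 fun hne => ?_)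
  obtain ⟨z, hzB, hzU⟩ := hU.inter_open_nonempty _ (X.basicOpen (s - s')).isOpen hne
  have hzW : z ∈ W := X.basicOpen_le _ hzB
  have h1 : X.presheaf.map (homOfLE (inf_le_left : W ⊓ U₀ ≤ W)).op s =
      X.presheaf.map (homOfLE (inf_le_left : W ⊓ U₀ ≤ W)).op s' := by
    refine (NormX.bijective_app_of_isIso_restrict π U₀ (inf_le_right : W ⊓ U₀ ≤ U₀)).1 ?_
    rw [app_res, app_res, h]
  have h2 := (X.mem_basicOpen (s - s') z hzW).1 hzB
  rw [map_sub, ← X.presheaf.germ_res_apply (homOfLE (inf_le_left : W ⊓ U₀ ≤ W)) z ⟨hzW, hzU⟩ s,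
    ← X.presheaf.germ_res_apply (homOfLE (inf_le_left : W ⊓ U₀ ≤ W)) z ⟨hzW, hzU⟩ s', h1, sub_self] at h2
  exact not_isUnit_zero h2

include hU in
theorem mono_unitToPush : Mono (ClSub.unitToPush π) := by
  refine (KFlatLib.toAb X).mono_of_mono_map ?_
  refine (TopCat.Sheaf.forget AddCommGrpCat.{u} X).mono_of_mono_map ?_
  haveI : ∀ W : (Opens X)ᵒᵖ, Mono (((TopCat.Sheaf.forget AddCommGrpCat.{u} X).map
      ((KFlatLib.toAb X).map (ClSub.unitToPush π))).app W) := fun W =>
    (AddCommGrpCat.mono_iff_injective _).2 (app_injective π hU W.unop)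
  exact NatTrans.mono_of_mono_app _

omit [IsReduced X] in
/-- The image of the stalk of the structure sheaf is spanned by the germ of `1`. -/
theorem range_stalkMap (x : X) {V : X.Opens} (hxV : x ∈ V) :
    LinearMap.range (Algz.stalkMapₗ (ClSub.unitToPush π) x) =
      Submodule.span (X.presheaf.stalk x)
        {((Scheme.Modules.pushforward π).obj (Coh.structureModule X')).presheaf.germ V x hxV (1 : Γ(X', π ⁻¹ᵁ V))} := by
  let o : (Coh.structureModule X).presheaf.stalk x :=
    (Coh.structureModule X).presheaf.germ V x hxV (1 : Γ(X, V))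
  have ho : ∀ w : (Coh.structureModule X).presheaf.stalk x, ∃ a : X.presheaf.stalk x, a • o = w := fun w => by
    obtain ⟨W, hxW, b, rfl⟩ := (Coh.structureModule X).presheaf.exists_germ_eq w
    refine ⟨X.presheaf.germ (V ⊓ W) x ⟨hxV, hxW⟩ (X.presheaf.map (homOfLE inf_le_right).op (show Γ(X, W) from b)), ?_⟩
    show _ • (Coh.structureModule X).presheaf.germ V x hxV (1 : Γ(X, V)) = _
    rw [← (Coh.structureModule X).presheaf.germ_res_apply (homOfLE (inf_le_left : V ⊓ W ≤ V)) x ⟨hxV, hxW⟩,
      ← (Coh.structureModule X).presheaf.germ_res_apply (homOfLE (inf_le_right : V ⊓ W ≤ W)) x ⟨hxV, hxW⟩ b]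
    refine (PresheafOfModules.germ_smul (M := (Coh.structureModule X).val) x (V ⊓ W) ⟨hxV, hxW⟩ _ _).symm.trans ?_
    congr 1
    show (X.presheaf.map (homOfLE (inf_le_right : V ⊓ W ≤ W)).op (show Γ(X, W) from b)) *
      X.presheaf.map (homOfLE (inf_le_left : V ⊓ W ≤ V)).op 1 = _
    rw [map_one, mul_one]
    rfl
  have h1 : Algz.stalkMapₗ (ClSub.unitToPush π) x o =
      ((Scheme.Modules.pushforward π).obj (Coh.structureModule X')).presheaf.germ V x hxV (1 : Γ(X', π ⁻¹ᵁ V)) := by
    refine (TopCat.Presheaf.stalkFunctor_map_germ_apply V x hxV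
      (Scheme.Modules.Hom.mapPresheaf (ClSub.unitToPush π)) (1 : Γ(X, V))).trans ?_
    exact congrArg (((Scheme.Modules.pushforward π).obj (Coh.structureModule X')).presheaf.germ V x hxV)
      (map_one (π.app V).hom)
  ext w
  rw [Submodule.mem_span_singleton]
  constructor
  · rintro ⟨v, rfl⟩
    obtain ⟨a, rfl⟩ := ho v
    exact ⟨a, by rw [map_smul, h1]⟩
  · rintro ⟨a, rfl⟩
    exact ⟨a • o, by rw [map_smul, h1]⟩

omit [IsReduced X] in
/-- The stalk of the cokernel of `O_X → π_*O_X'`. -/
theorem length_cokernel_eq (x : X) {V : X.Opens} (hxV : x ∈ V) :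
    Module.length (X.presheaf.stalk x) ((cokernel (ClSub.unitToPush π)).presheaf.stalk x) =
      Module.length (X.presheaf.stalk x)
        (((Scheme.Modules.pushforward π).obj (Coh.structureModule X')).presheaf.stalk x ⧸
          Submodule.span (X.presheaf.stalk x)
            {((Scheme.Modules.pushforward π).obj (Coh.structureModule X')).presheaf.germ V x hxV (1 : Γ(X', π ⁻¹ᵁ V))}) := by
  let iso := PreservesCokernel.iso (DerSch.stalkFunctor X x) (ClSub.unitToPush π) ≪≫
    ModuleCat.cokernelIsoRangeQuotient _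
  refine (LinearEquiv.length_eq iso.toLinearEquiv).trans (LinearEquiv.length_eq (Submodule.quotEquivOfEq _ _ ?_))
  exact range_stalkMap π x hxV

omit [IsReduced X] in
theorem subsingleton_cokernel_stalk {x : X} (hx : x ∈ U₀) :
    Subsingleton ((cokernel (ClSub.unitToPush π)).presheaf.stalk x) := by
  rw [← Module.length_eq_zero_iff (R := X.presheaf.stalk x), length_cokernel_eq π x hx, Module.length_eq_zero_iff,
    Submodule.Quotient.subsingleton_iff, eq_top_iff]
  intro w _
  obtain ⟨W, hxW, b, rfl⟩ := TopCat.Presheaf.exists_germ_eq _ w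
  obtain ⟨a, ha⟩ := (NormX.bijective_app_of_isIso_restrict π U₀ (inf_le_right : W ⊓ U₀ ≤ U₀)).2
    (((Scheme.Modules.pushforward π).obj (Coh.structureModule X')).presheaf.map (homOfLE inf_le_left).op b)
  refine Submodule.mem_span_singleton.2 ⟨X.presheaf.germ (W ⊓ U₀) x ⟨hxW, hx⟩ a, ?_⟩
  rw [← TopCat.Presheaf.germ_res_apply _ (homOfLE (inf_le_right : W ⊓ U₀ ≤ U₀)) x ⟨hxW, hx⟩,
    ← TopCat.Presheaf.germ_res_apply _ (homOfLE (inf_le_left : W ⊓ U₀ ≤ W)) x ⟨hxW, hx⟩ b]
  refine (PresheafOfModules.germ_smul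
    (M := ((Scheme.Modules.pushforward π).obj (Coh.structureModule X')).val) x (W ⊓ U₀) ⟨hxW, hx⟩ a _).symm.trans ?_
  congr 1
  show π.app (W ⊓ U₀) a * X'.presheaf.map (homOfLE (π.preimage_mono (inf_le_right : W ⊓ U₀ ≤ U₀))).op 1 = _
  rw [map_one, mul_one]
  exact ha

include hU hU' in
/-- The length of the cokernel at a point is the δ-invariant. -/
theorem length_cokernel [IsLocallyNoetherian X] [IsFinite π] (hX' : Pi1.IsNormalScheme X') (x : X) :
    Module.length (X.presheaf.stalk x) ((cokernel (ClSub.unitToPush π)).presheaf.stalk x) =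
      Curv2.deltaInv (X.presheaf.stalk x) := by
  obtain ⟨_, ⟨V, hV, rfl⟩, hxV, -⟩ :=
    X.isBasis_affineOpens.exists_subset_of_mem_open (Set.mem_univ x) isOpen_univ
  haveI : IsNoetherianRing Γ(X, V) := IsLocallyNoetherian.component_noetherian ⟨V, hV⟩
  have hW : IsAffineOpen (π ⁻¹ᵁ V) := hV.preimage π
  haveI : IsReduced X' := by
    haveI : ∀ y : X', _root_.IsReduced (X'.presheaf.stalk y) := fun y => by
      haveI := (hX' y).1
      infer_instance
    exact isReduced_of_isReduced_stalk X'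
  letI : Algebra Γ(X, V) Γ(X', π ⁻¹ᵁ V) := (π.app V).hom.toAlgebra
  haveI : Module.Finite Γ(X, V) Γ(X', π ⁻¹ᵁ V) := π.finite_app V hV
  -- an element with dense nonvanishing locus inside `U₀`
  obtain ⟨t, htmin, htU⟩ := (S2320.result Γ(X, V)).2 (hV.fromSpec ⁻¹' (U₀ : Set X))
    (U₀.isOpen.preimage hV.fromSpec.continuous) (hU.preimage hV.fromSpec.isOpenEmbedding.isOpenMap)
  have hdt : Dense (PrimeSpectrum.basicOpen t : Set (PrimeSpectrum Γ(X, V))) := ((S2320.result Γ(X, V)).1 t).2 htmin
  have hDU : X.basicOpen t ≤ U₀ := by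
    intro z hz
    rw [← hV.fromSpec_image_basicOpen] at hz
    obtain ⟨q, hq, rfl⟩ := hz
    exact htU hq
  -- a section on the preimage vanishing on the nonvanishing locus of `t` vanishes
  have hres : ∀ z : Γ(X', π ⁻¹ᵁ V),
      X'.presheaf.map (homOfLE (π.preimage_mono (X.basicOpen_le t))).op z = 0 → z = 0 := by
    intro z hz
    rw [← AlgebraicGeometry.basicOpen_eq_bot_iff]
    refine Opens.ext (Set.not_nonempty_iff_eq_empty.1 fun hne => ?_)
    obtain ⟨y, hyB, hyU⟩ := hU'.inter_open_nonempty _ (X'.basicOpen z).isOpen hne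
    -- the image of the open set of such points is open
    let O : Set (U₀ : Scheme.{u}) := (π ∣_ U₀) '' ((π ⁻¹ᵁ U₀).ι ⁻¹' (X'.basicOpen z : Set X'))
    have hO : IsOpen O := (π ∣_ U₀).homeomorph.isOpenMap _ ((X'.basicOpen z).isOpen.preimage (π ⁻¹ᵁ U₀).ι.continuous)
    have hO' : IsOpen (U₀.ι '' O) := U₀.ι.isOpenEmbedding.isOpenMap _ hO
    obtain ⟨q, hqO, hqD⟩ := hdt.inter_open_nonempty _ (hO'.preimage hV.fromSpec.continuous)
      ⟨hV.primeIdealOf ⟨π y, X'.basicOpen_le z hyB⟩, by
        rw [Set.mem_preimage, hV.fromSpec_primeIdealOf]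
        exact ⟨_, ⟨⟨y, hyU⟩, hyB, rfl⟩, morphismRestrict_base_coe _ _ ⟨y, hyU⟩⟩⟩
    obtain ⟨w, ⟨y', hy'B, rfl⟩, hw⟩ := hqO
    have hD : π y'.1 ∈ X.basicOpen t := by
      rw [← morphismRestrict_base_coe]
      show U₀.ι _ ∈ _
      rw [hw, ← hV.fromSpec_image_basicOpen]
      exact ⟨q, hqD, rfl⟩
    have h2 := (X'.mem_basicOpen z y'.1 (X'.basicOpen_le z hy'B)).1 hy'B
    rw [← X'.presheaf.germ_res_apply (homOfLE (π.preimage_mono (X.basicOpen_le t))) y'.1 hD z, hz, map_zero] at h2
    exact not_isUnit_zero h2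
  have hinv : IsUnit (X'.presheaf.map (homOfLE (π.preimage_mono (X.basicOpen_le t))).op (π.app V t)) := by
    rw [← app_res]
    exact (RingedSpace.isUnit_res_basicOpen X.toRingedSpace t).map _
  have ht' : ∀ z : Γ(X', π ⁻¹ᵁ V), π.app V t * z = 0 → z = 0 := fun z hz => hres z (by
    refine hinv.mul_right_eq_zero.1 ?_
    rw [← map_mul, hz, map_zero])
  -- bounded denominators
  haveI := hV.isLocalization_basicOpen t
  have hden₁ : ∀ z : Γ(X', π ⁻¹ᵁ V), ∃ (n : ℕ) (r : Γ(X, V)), π.app V r = π.app V t ^ n * z := fun z => by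
    obtain ⟨a, ha⟩ := (NormX.bijective_app_of_isIso_restrict π U₀ hDU).2
      (X'.presheaf.map (homOfLE (π.preimage_mono (X.basicOpen_le t))).op z)
    obtain ⟨⟨r, ⟨_, n, rfl⟩⟩, hr⟩ := IsLocalization.surj (Submonoid.powers t) a
    refine ⟨n, r, sub_eq_zero.1 (hres _ ?_)⟩
    rw [map_sub, map_mul, map_pow, ← app_res π (X.basicOpen_le t), ← app_res π (X.basicOpen_le t), ← ha, ← map_pow,
      ← map_mul, ← map_sub]
    have hr' : a * X.presheaf.map (homOfLE (X.basicOpen_le t)).op (t ^ n) =
      X.presheaf.map (homOfLE (X.basicOpen_le t)).op r := hr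
    rw [← hr', map_pow, mul_comm, sub_self, map_zero]
  obtain ⟨S, hS⟩ := Module.Finite.fg_top (R := Γ(X, V)) (M := Γ(X', π ⁻¹ᵁ V))
  choose n r hr using hden₁
  have hden : ∀ z : Γ(X', π ⁻¹ᵁ V), ∃ r, algebraMap Γ(X, V) Γ(X', π ⁻¹ᵁ V) r = t ^ S.sup n • z := by
    intro z
    have hz : z ∈ Submodule.span Γ(X, V) (S : Set Γ(X', π ⁻¹ᵁ V)) := hS ▸ Submodule.mem_top
    induction hz using Submodule.span_induction with
    | mem z hz =>
      refine ⟨t ^ (S.sup n - n z) * r z, ?_⟩
      show π.app V (t ^ (S.sup n - n z) * r z) = π.app V (t ^ S.sup n) * z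
      rw [map_mul, map_pow, hr, ← mul_assoc, ← pow_add, Nat.sub_add_cancel (Finset.le_sup hz), map_pow]
    | zero => exact ⟨0, by rw [map_zero, smul_zero]⟩
    | add a b _ _ ha hb =>
      obtain ⟨r₁, h₁⟩ := ha
      obtain ⟨r₂, h₂⟩ := hb
      exact ⟨r₁ + r₂, by rw [map_add, h₁, h₂, smul_add]⟩
    | smul a z _ hz =>
      obtain ⟨r₁, h₁⟩ := hz
      exact ⟨a * r₁, by rw [map_mul, h₁, smul_comm, Algebra.smul_def a]⟩
  have htN : ∀ z : Γ(X', π ⁻¹ᵁ V), algebraMap Γ(X, V) Γ(X', π ⁻¹ᵁ V) (t ^ S.sup n) * z = 0 → z = 0 := by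
    intro z
    show π.app V (t ^ S.sup n) * z = 0 → _
    rw [map_pow]
    generalize S.sup n = N
    induction N generalizing z with
    | zero => simp
    | succ N ih => intro h; exact ih z (ht' _ (by rw [← mul_assoc, ← pow_succ']; exact h))
  -- normality of the sections
  have hnorm : ∀ P : Ideal Γ(X', π ⁻¹ᵁ V), ∀ [P.IsPrime],
      IsDomain (Localization.AtPrime P) ∧ IsIntegrallyClosed (Localization.AtPrime P) := fun P hP => by
    let y : X' := hW.fromSpec ⟨P, hP⟩
    have hy : y ∈ π ⁻¹ᵁ V := SetLike.mem_coe.1 (hW.range_fromSpec ▸ Set.mem_range_self _)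
    letI := X'.presheaf.algebra_section_stalk ⟨y, hy⟩
    haveI := hW.isLocalization_stalk' ⟨P, hP⟩ hy
    let e := (IsLocalization.algEquiv P.primeCompl (X'.presheaf.stalk y) (Localization.AtPrime P)).toRingEquiv
    obtain ⟨hd, hi⟩ := hX' y
    exact ⟨e.symm.toMulEquiv.isDomain _, IsIntegrallyClosed.of_equiv e⟩
  -- the stalk of the direct image
  let M := (Scheme.Modules.pushforward π).obj (Coh.structureModule X')
  letI := QCoh.stalkAlg hxV
  letI := QCoh.stalkModule M hxV
  haveI := QCoh.isScalarTower_stalk M hxV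
  haveI : IsLocalization.AtPrime (X.presheaf.stalk x) (hV.primeIdealOf ⟨x, hxV⟩).asIdeal :=
    QCoh.isLocalization_stalk' hV hxV
  haveI := QCoh.isLocalizedModule_germLin (QCoh.isQCoh_pushforward π (QCoh.isQCoh_structureModule (X := X'))) hV hxV
  let e₀ : Γ(X', π ⁻¹ᵁ V) ≃ₗ[Γ(X, V)] Γ(M, V) :=
    { toFun := fun z => z
      invFun := fun z => z
      left_inv := fun _ => rfl
      right_inv := fun _ => rfl
      map_add' := fun _ _ => rfl
      map_smul' := fun a z => (QCoh.pushforward_smul (M := Coh.structureModule X') π V a z).symm }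
  haveI := IsLocalizedModule.of_linearEquiv_right (hV.primeIdealOf ⟨x, hxV⟩).asIdeal.primeCompl
    (QCoh.germLin M hxV) e₀
  have h := length_localized Γ(X, V) Γ(X', π ⁻¹ᵁ V) (hV.primeIdealOf ⟨x, hxV⟩).asIdeal (X.presheaf.stalk x)
    (app_injective π hU V) hnorm (t ^ S.sup n) htN hden (M.presheaf.stalk x)
    ((QCoh.germLin M hxV).comp e₀.toLinearMap)
  rw [length_cokernel_eq π x hxV]
  exact h

end

/-- `χ(O_X') = χ(O_X) + Σ [κ(x):k] δ_x` for the normalization of a reduced projective curve. -/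
theorem euler_eq (k : Type u) [Field k] (X : Scheme.{u}) [X.Over (Spec (CommRingCat.of k))]
    [IsProper (X ↘ (Spec (CommRingCat.of k)))] [IsReduced X]
    (hequi : ∀ Z ∈ irreducibleComponents (X : Type u), topologicalKrullDim Z = 1)
    (X' : Scheme.{u}) [X'.Over (Spec (CommRingCat.of k))] (π : X' ⟶ X) [IsFinite π]
    (hπ : π ≫ (X ↘ (Spec (CommRingCat.of k))) = X' ↘ (Spec (CommRingCat.of k))) (hX' : Pi1.IsNormalScheme X')
    {U : X.Opens} (hU : Dense (U : Set X)) (hU' : Dense ((π ⁻¹ᵁ U : X'.Opens) : Set X')) [IsIso (π ∣_ U)] :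
    Curv2.euler k X' (Coh.structureModule X') = Curv2.euler k X (Coh.structureModule X) +
      ∑ᶠ x : X, (open Classical in if IsClosed ({x} : Set X) then
        ((Module.finrank k (X.residueField x) : ℤ) * ((Curv2.deltaInv (X.presheaf.stalk x)).toNat : ℤ)) else 0) := by
  classical
  haveI := CurveCohLib.isNoetherian' (k := k) (X := X)
  haveI : IsLocallyNoetherian X' := LocallyOfFiniteType.isLocallyNoetherian π
  haveI := mono_unitToPush π hU
  have hMc : Coh.IsCoh ((Scheme.Modules.pushforward π).obj (Coh.structureModule X')) :=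
    QCoh.isCoh_pushforward_finite π QCoh.isCoh_structureModule'
  have hQc : Coh.IsCoh (cokernel (ClSub.unitToPush π)) :=
    QCoh.isCoh_cokernel QCoh.isCoh_structureModule'.1 hMc _
  have hclosed : ∀ x : X, x ∉ U → IsClosed ({x} : Set X) := fun x hx => by
    by_contra hx'
    exact hx (FlatDense.mem_of_dense_of_max_scheme U hU fun y' hy' => PureLib.eq_of_specializes hequi hx' hy')
  have hfin : ((U : Set X)ᶜ).Finite :=
    CurveCohLib.finite_of_closedPoints U.isOpen.isClosed_compl fun x hx => hclosed x hx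
  have hsupp : CohB1.support (cokernel (ClSub.unitToPush π)) ⊆ (U : Set X)ᶜ := fun x hx hxU =>
    hx (subsingleton_cokernel_stalk π hxU)
  obtain ⟨hχ, hS⟩ := CurveCohLib.euler_eq_sum_stalks (k := k) hQc (fun x hx => hclosed x (hsupp hx)) hfin.toFinset
    (hsupp.trans (Set.Finite.coe_toFinset hfin).ge)
  have hpush : Curv2.euler k X ((Scheme.Modules.pushforward π).obj (Coh.structureModule X')) =
      Curv2.euler k X' (Coh.structureModule X') := IntNum.euler_push k π hπ QCoh.isQCoh_structureModule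
  rw [← hpush, CurveBundle.euler_add' k _ _ (cokernel.condition _) (CurveSlope.shortExact_cokernel_of_mono (ClSub.unitToPush π))
    QCoh.isCoh_structureModule' hMc hQc, hχ, finsum_eq_sum_of_support_subset _ (s := hfin.toFinset) ?_]
  · congr 1
    refine Finset.sum_congr rfl fun x hx => ?_
    rw [if_pos (hclosed x (hfin.mem_toFinset.1 hx))]
    letI := CurveCohLib.stalkModuleK k (cokernel (ClSub.unitToPush π)) x
    letI : Algebra k (X.presheaf.stalk x) := (Curv2.stalkMap k X x).toAlgebra
    letI : Algebra (X.presheaf.stalk x) (X.residueField x) := (X.residue x).hom.toAlgebra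
    haveI : IsScalarTower k (X.presheaf.stalk x) (X.residueField x) :=
      IsScalarTower.of_algebraMap_eq fun c => rfl
    haveI : IsScalarTower k (X.presheaf.stalk x) ((cokernel (ClSub.unitToPush π)).presheaf.stalk x) :=
      IsScalarTower.of_algebraMap_smul fun _ _ => rfl
    haveI : Module.Finite k (X.residueField x) :=
      Kleiman.finite_resMap k (hclosed x (hfin.mem_toFinset.1 hx))
    haveI := hS x hx
    have h := S12708.result (Λ := k) (k := X.residueField x) (X.presheaf.stalk x)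
      (X.residue_surjective x) ((cokernel (ClSub.unitToPush π)).presheaf.stalk x)
    rw [length_cokernel π hU hU' hX' x, Module.length_eq_finrank, Module.length_eq_finrank] at h
    rw [← ENat.toNat_natCast (Module.finrank k ((cokernel (ClSub.unitToPush π)).presheaf.stalk x)), ← h, ENat.toNat_mul,
      ENat.toNat_natCast, Nat.cast_mul]
  · intro x hx
    rw [Function.mem_support] at hx
    rw [Set.Finite.coe_toFinset]
    intro hxU
    apply hx
    split
    · rw [← length_cokernel π hU hU' hX' x, Module.length_eq_zero_iff.2 (subsingleton_cokernel_stalk π hxU)]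
      simp
    · rfl

end Groth.Agent.NormEuler
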